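import Groth.Agent.L28.TensorCx
import Groth.Prelude.Def_HTor
import Mathlib.Data.Int.Interval

/-!
Classes of cycles, components of the total tensor complex, and the Künneth map.
-/

set_option autoImplicit false
universe u

open CategoryTheory CategoryTheory.Limits MonoidalCategory HomologicalComplex
open scoped TensorProduct
open Groth.L28.TensorCx

namespace Groth.L28.Kun

variable {A : Type u} [CommRing A]

/-- The cycles, as a submodule. -/
noncomputable abbrev Z (K : DRing.Cx A) (n : ℤ) : Submodule A (K.X n) :=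
  LinearMap.ker (K.d n (n + 1)).hom

lemma iCycles_bijective (K : DRing.Cx A) (n : ℤ) :
    Function.Bijective (LinearMap.codRestrict (Z K n) (K.iCycles n).hom
      (fun z => HomElt.d_iCycles n (n + 1) z)) := by
  refine ⟨fun a b h => HomElt.iCycles_injective K n (congrArg Subtype.val h), fun x => ?_⟩
  obtain ⟨z, hz⟩ := HomElt.exists_cycle (K := K) (j := n) (k := n + 1) (by simp) x.1 x.2
  exact ⟨z, Subtype.ext hz⟩

/-- The class of a cycle. -/
noncomputable def cl (K : DRing.Cx A) (n : ℤ) : Z K n →ₗ[A] K.homology n :=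
  (K.homologyπ n).hom.comp (LinearEquiv.ofBijective _ (iCycles_bijective K n)).symm.toLinearMap

lemma cl_iCycles (K : DRing.Cx A) (n : ℤ) (z : K.cycles n) :
    cl K n ⟨K.iCycles n z, HomElt.d_iCycles n (n + 1) z⟩ = K.homologyπ n z := by
  show K.homologyπ n ((LinearEquiv.ofBijective _ (iCycles_bijective K n)).symm _) = _
  congr 1
  apply (LinearEquiv.ofBijective _ (iCycles_bijective K n)).injective
  rw [LinearEquiv.apply_symm_apply]
  rfl

lemma exists_iCycles {K : DRing.Cx A} {n : ℤ} (x : Z K n) :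
    ∃ z : K.cycles n, K.iCycles n z = x.1 ∧ cl K n x = K.homologyπ n z := by
  obtain ⟨z, hz⟩ := HomElt.exists_cycle (K := K) (j := n) (k := n + 1) (by simp) x.1 x.2
  refine ⟨z, hz, ?_⟩
  rw [← cl_iCycles]
  exact congrArg _ (Subtype.ext hz.symm)

lemma cl_surjective (K : DRing.Cx A) (n : ℤ) : Function.Surjective (cl K n) := fun h => by
  obtain ⟨z, rfl⟩ := HomElt.homologyπ_surjective K n h
  exact ⟨_, cl_iCycles K n z⟩

lemma cl_eq_zero_iff (K : DRing.Cx A) {n m : ℤ} (hm : m + 1 = n) (x : Z K n) :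
    cl K n x = 0 ↔ ∃ y, K.d m n y = x.1 := by
  obtain ⟨z, hz, he⟩ := exists_iCycles x
  rw [he, HomElt.π_eq_zero_iff (i := m) ((ComplexShape.up ℤ).prev_eq' hm), hz]

lemma d_mem_Z (K : DRing.Cx A) (m n : ℤ) (y : K.X m) : K.d m n y ∈ Z K n := by
  show K.d n (n + 1) (K.d m n y) = 0
  rw [← ConcreteCategory.comp_apply, K.d_comp_d]
  rfl

lemma map_mem_Z {K K' : DRing.Cx A} (f : K ⟶ K') {n : ℤ} (x : Z K n) : f.f n x.1 ∈ Z K' n := by
  show K'.d n (n + 1) (f.f n x.1) = 0
  rw [← ConcreteCategory.comp_apply, f.comm, ConcreteCategory.comp_apply,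
    show K.d n (n + 1) x.1 = 0 from x.2, map_zero]

lemma homologyMap_cl {K K' : DRing.Cx A} (f : K ⟶ K') {n : ℤ} (x : Z K n) :
    HomologicalComplex.homologyMap f n (cl K n x) = cl K' n ⟨f.f n x.1, map_mem_Z f x⟩ := by
  obtain ⟨z, hz, he⟩ := exists_iCycles x
  rw [he, HomElt.homologyMap_π]
  refine (cl_iCycles K' n _).symm.trans (congrArg _ (Subtype.ext ?_))
  exact (HomElt.iCycles_cyclesMap f n z).trans (congrArg _ hz)

section comp

variable (L K : DRing.Cx A)

/-- The `(p, q)` component. -/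
noncomputable abbrev pc (p q n : ℤ) : (HTor.tensorCx L K).X n →ₗ[A] L.X p ⊗[A] K.X q :=
  proj L K p q n

lemma pc_ext {a b : ℤ} (hL : ∀ p, a < p → IsZero (L.X p)) (hK : ∀ q, b < q → IsZero (K.X q))
    {n : ℤ} {x y : (HTor.tensorCx L K).X n}
    (h : ∀ p q, p + q = n → pc L K p q n x = pc L K p q n y) : x = y := by
  rw [← sub_eq_zero]
  have key : ∀ (k : ℕ), ∀ z ∈ fil L K n (fun p _ => a + 1 - (k : ℤ) ≤ p),
      (∀ p q, p + q = n → pc L K p q n z = 0) → z = 0 := by
    intro k
    induction k with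
    | zero =>
      intro z hz _
      rw [fil_eq_bot L K fun p q _ hp => ?_, Submodule.mem_bot] at hz
      · exact hz
      · have : Subsingleton (L.X p) := ModuleCat.isZero_iff_subsingleton.mp (hL p (by omega))
        infer_instance
    | succ k ih =>
      intro z hz hc
      obtain ⟨w, hw⟩ := exists_sub_ins_mem L K (a := a + 1 - ((k + 1 : ℕ) : ℤ))
        (b := n - (a + 1 - ((k + 1 : ℕ) : ℤ))) (by omega)
        (T := fun p _ => a + 1 - (k : ℤ) ≤ p) (fun p q hpq hp => by omega) hz
      have h0 := hc (a + 1 - ((k + 1 : ℕ) : ℤ)) (n - (a + 1 - ((k + 1 : ℕ) : ℤ))) (by omega)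
      rw [← sub_add_cancel z (ins L K _ _ n (by omega) w), map_add,
        proj_eq_zero_of_mem_fil L K (by omega) hw, zero_add, proj_ins_self] at h0
      rw [h0, map_zero, sub_zero] at hw
      exact ih z hw hc
  obtain ⟨k, hk⟩ : ∃ k : ℕ, a + 1 - (k : ℤ) ≤ n - b := ⟨(a + 1 - (n - b)).toNat, by omega⟩
  refine key k _ ?_ fun p q hpq => by rw [map_sub, h p q hpq, sub_self]
  rw [fil_eq_top L K fun p q hpq hp => ?_]
  · exact Submodule.mem_top
  · have : Subsingleton (K.X q) := ModuleCat.isZero_iff_subsingleton.mp (hK q (by omega))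
    infer_instance

lemma exists_pc {a b : ℤ} (hL : ∀ p, a < p → IsZero (L.X p)) (hK : ∀ q, b < q → IsZero (K.X q))
    (n : ℤ) (c : ∀ p q : ℤ, L.X p ⊗[A] K.X q) :
    ∃ x : (HTor.tensorCx L K).X n, ∀ p q, p + q = n → pc L K p q n x = c p q := by
  classical
  refine ⟨∑ i ∈ Finset.Icc (n - b) a, ins L K i (n - i) n (by omega) (c i (n - i)), fun p q hpq => ?_⟩
  obtain rfl : q = n - p := by omega
  rw [map_sum]
  by_cases hp : p ∈ Finset.Icc (n - b) a
  · rw [Finset.sum_eq_single p (fun i _ hi => proj_ins_ne L K _ (by omega) _)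
      (fun h => absurd hp h), proj_ins_self]
  · rw [Finset.sum_eq_zero fun i hi => proj_ins_ne L K _ (by
      intro he; exact hp (he.1 ▸ hi)) _]
    rw [Finset.mem_Icc, not_and_or, not_le, not_le] at hp
    rcases hp with hp | hp
    · have : Subsingleton (K.X (n - p)) := ModuleCat.isZero_iff_subsingleton.mp (hK _ (by omega))
      exact Subsingleton.elim _ _
    · have : Subsingleton (L.X p) := ModuleCat.isZero_iff_subsingleton.mp (hL p hp)
      exact Subsingleton.elim _ _

lemma pc_ins_self {p q n : ℤ} (h : p + q = n) (z : L.X p ⊗[A] K.X q) :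
    pc L K p q n (ins L K p q n h z) = z := proj_ins_self L K p q n h z

lemma pc_d (p' p q' q n n' : ℤ) (hp : p' + 1 = p) (hq : q' + 1 = q) (hn : n + 1 = n')
    (hpq : p + q = n') (x : (HTor.tensorCx L K).X n) :
    pc L K p q n' ((HTor.tensorCx L K).d n n' x) =
      LinearMap.rTensor (K.X q) (L.d p' p).hom (pc L K p' q n x) +
        ((p.negOnePow : ℤˣ) : ℤ) •
          LinearMap.lTensor (L.X p) (K.d q' q).hom (pc L K p q' n x) := by
  let F : (HTor.tensorCx L K).X n →ₗ[A] L.X p ⊗[A] K.X q :=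
    (LinearMap.rTensor (K.X q) (L.d p' p).hom).comp (pc L K p' q n) +
      ((p.negOnePow : ℤˣ) : ℤ) •
        (LinearMap.lTensor (L.X p) (K.d q' q).hom).comp (pc L K p q' n)
  suffices H : (HTor.tensorCx L K).d n n' ≫ ModuleCat.ofHom (pc L K p q n') = ModuleCat.ofHom F from
    ConcreteCategory.congr_hom H x
  refine hom_ext fun r s hrs z => ?_
  show pc L K p q n' ((HTor.tensorCx L K).d n n' (ins L K r s n hrs z)) = F (ins L K r s n hrs z)
  have hd := d_ins L K r s n n' (r + 1) (s + 1) hrs (by simpa using hn) (by simp) (by simp)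
    (by omega) (by omega) z
  rw [hd, map_add, map_zsmul, ComplexShape.ε_up_ℤ]
  simp only [F, LinearMap.add_apply, LinearMap.smul_apply, LinearMap.comp_apply]
  by_cases h1 : r = p'
  · obtain rfl : s = q := by omega
    subst h1
    obtain rfl : r + 1 = p := hp
    rw [proj_ins_self, proj_ins_self, proj_ins_ne L K _ (by omega),
      proj_ins_ne L K _ (by omega), map_zero, smul_zero, smul_zero]
  · by_cases h2 : r = p
    · subst h2
      obtain rfl : s = q' := by omega
      obtain rfl : s + 1 = q := hq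
      rw [proj_ins_self, proj_ins_self, proj_ins_ne L K _ (by omega),
        proj_ins_ne L K _ (by omega), map_zero]
    · rw [proj_ins_ne L K _ (by omega), proj_ins_ne L K _ (by omega),
        proj_ins_ne L K _ (by omega), proj_ins_ne L K _ (by omega), map_zero, map_zero]
      simp

variable {L K} in
lemma pc_map {L' K' : DRing.Cx A} (f : L ⟶ L') (g : K ⟶ K') (p q n : ℤ)
    (x : (HTor.tensorCx L K).X n) :
    pc L' K' p q n ((HomologicalComplex.tensorHom f g).f n x) =
      TensorProduct.map (f.f p).hom (g.f q).hom (pc L K p q n x) := by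
  suffices H : (HomologicalComplex.tensorHom f g).f n ≫ ModuleCat.ofHom (pc L' K' p q n) =
      ModuleCat.ofHom ((TensorProduct.map (f.f p).hom (g.f q).hom).comp (pc L K p q n)) from
    ConcreteCategory.congr_hom H x
  refine hom_ext fun r s h z => ?_
  show pc L' K' p q n ((HomologicalComplex.tensorHom f g).f n (ins L K r s n h z)) =
    TensorProduct.map (f.f p).hom (g.f q).hom (pc L K p q n (ins L K r s n h z))
  rw [map_ins]
  by_cases hab : r = p ∧ s = q
  · obtain ⟨rfl, rfl⟩ := hab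
    rw [proj_ins_self, proj_ins_self]
  · rw [proj_ins_ne _ _ h hab, proj_ins_ne _ _ h hab, map_zero]

end comp

section kunneth

variable (L M : DRing.Cx A)

lemma ins_mem_Z {i j n : ℤ} (h : i + j = n) (z : Z L i) (z' : Z M j) :
    ins L M i j n h (z.1 ⊗ₜ z'.1) ∈ Z (HTor.tensorCx L M) n := by
  show (HTor.tensorCx L M).d n (n + 1) (ins L M i j n h (z.1 ⊗ₜ z'.1)) = 0
  have hd := d_ins L M i j n (n + 1) (i + 1) (j + 1) h (by simp) (by simp) (by simp)
    (by omega) (by omega) (z.1 ⊗ₜ z'.1)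
  rw [hd, LinearMap.rTensor_tmul, LinearMap.lTensor_tmul,
    show (L.d i (i + 1)).hom z.1 = 0 from z.2, show (M.d j (j + 1)).hom z'.1 = 0 from z'.2,
    TensorProduct.zero_tmul, TensorProduct.tmul_zero, map_zero, map_zero, smul_zero, add_zero]

/-- `z ⊗ z' ↦ [z ⊗ z']`. -/
noncomputable def chi (i j n : ℤ) (h : i + j = n) :
    Z L i ⊗[A] Z M j →ₗ[A] (HTor.tensorCx L M).homology n :=
  TensorProduct.lift (LinearMap.mk₂ A
    (fun z z' => cl (HTor.tensorCx L M) n ⟨_, ins_mem_Z L M h z z'⟩)
    (fun a b c => by rw [← map_add]; congr 1; apply Subtype.ext; simp [TensorProduct.add_tmul])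
    (fun r a c => by rw [← map_smul]; congr 1; apply Subtype.ext; simp [← TensorProduct.smul_tmul'])
    (fun a b c => by rw [← map_add]; congr 1; apply Subtype.ext; simp [TensorProduct.tmul_add])
    (fun r a c => by rw [← map_smul]; congr 1; apply Subtype.ext; simp [TensorProduct.tmul_smul, map_smul]))

lemma chi_tmul {i j n : ℤ} (h : i + j = n) (z : Z L i) (z' : Z M j) :
    chi L M i j n h (z ⊗ₜ z') = cl (HTor.tensorCx L M) n ⟨_, ins_mem_Z L M h z z'⟩ := rfl

lemma chi_eq {i j n : ℤ} (h : i + j = n) (w : Z L i ⊗[A] Z M j) :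
    ∃ hm : ins L M i j n h (TensorProduct.map (Z L i).subtype (Z M j).subtype w) ∈
        Z (HTor.tensorCx L M) n,
      chi L M i j n h w = cl (HTor.tensorCx L M) n ⟨_, hm⟩ := by
  induction w using TensorProduct.induction_on with
  | zero =>
    refine ⟨by simp, ?_⟩
    rw [map_zero, ← map_zero (cl (HTor.tensorCx L M) n)]
    congr 1
    exact Subtype.ext (by simp)
  | tmul z z' => exact ⟨ins_mem_Z L M h z z', rfl⟩
  | add a b ha hb =>
    obtain ⟨ma, ea⟩ := ha
    obtain ⟨mb, eb⟩ := hb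
    refine ⟨by rw [map_add, map_add]; exact add_mem ma mb, ?_⟩
    rw [map_add, ea, eb, ← map_add]
    congr 1
    exact Subtype.ext (by simp)

lemma chi_boundary_left {i j n : ℤ} (h : i + j = n) (y : L.X (i - 1)) (z' : Z M j) :
    chi L M i j n h (⟨L.d (i - 1) i y, d_mem_Z L _ _ y⟩ ⊗ₜ z') = 0 := by
  rw [chi_tmul, cl_eq_zero_iff _ (m := n - 1) (by omega)]
  refine ⟨ins L M (i - 1) j (n - 1) (by omega) (y ⊗ₜ z'.1), ?_⟩
  have hd := d_ins L M (i - 1) j (n - 1) n i (j + 1) (by omega) (by simp) (by simp) (by simp)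
    h (by omega) (y ⊗ₜ z'.1)
  rw [hd, LinearMap.lTensor_tmul, show (M.d j (j + 1)).hom z'.1 = 0 from z'.2,
    TensorProduct.tmul_zero, map_zero, smul_zero, add_zero, LinearMap.rTensor_tmul]

lemma chi_boundary_right {i j n : ℤ} (h : i + j = n) (z : Z L i) (y : M.X (j - 1)) :
    chi L M i j n h (z ⊗ₜ ⟨M.d (j - 1) j y, d_mem_Z M _ _ y⟩) = 0 := by
  rw [chi_tmul, cl_eq_zero_iff _ (m := n - 1) (by omega)]
  refine ⟨((i.negOnePow : ℤˣ) : ℤ) • ins L M i (j - 1) (n - 1) (by omega) (z.1 ⊗ₜ y), ?_⟩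
  have hd := d_ins L M i (j - 1) (n - 1) n (i + 1) j (by omega) (by simp) (by simp) (by simp)
    (by omega) h (z.1 ⊗ₜ y)
  rw [map_zsmul, hd, LinearMap.rTensor_tmul, show (L.d i (i + 1)).hom z.1 = 0 from z.2,
    TensorProduct.zero_tmul, map_zero, zero_add, ComplexShape.ε_up_ℤ, smul_smul, ← Units.val_mul,
    Int.units_mul_self, Units.val_one, one_smul, LinearMap.lTensor_tmul]

lemma chi_ker {i j n : ℤ} (h : i + j = n) :
    LinearMap.ker (TensorProduct.map (cl L i) (cl M j)) ≤ LinearMap.ker (chi L M i j n h) := by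
  rw [TensorProduct.map_ker (LinearMap.exact_subtype_ker_map (cl L i)) (cl_surjective L i)
    (LinearMap.exact_subtype_ker_map (cl M j)) (cl_surjective M j)]
  refine sup_le ?_ ?_
  · rintro _ ⟨w, rfl⟩
    induction w using TensorProduct.induction_on with
    | zero => simp
    | tmul z z' =>
      obtain ⟨y, hy⟩ := (cl_eq_zero_iff M (m := j - 1) (by omega) z'.1).mp z'.2
      show chi L M i j n h (z ⊗ₜ z'.1) = 0
      rw [show z'.1 = ⟨M.d (j - 1) j y, d_mem_Z M _ _ y⟩ from Subtype.ext hy.symm]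
      exact chi_boundary_right L M h z y
    | add a b ha hb => rw [map_add]; exact add_mem ha hb
  · rintro _ ⟨w, rfl⟩
    induction w using TensorProduct.induction_on with
    | zero => simp
    | tmul z z' =>
      obtain ⟨y, hy⟩ := (cl_eq_zero_iff L (m := i - 1) (by omega) z.1).mp z.2
      show chi L M i j n h (z.1 ⊗ₜ z') = 0
      rw [show z.1 = ⟨L.d (i - 1) i y, d_mem_Z L _ _ y⟩ from Subtype.ext hy.symm]
      exact chi_boundary_left L M h y z'
    | add a b ha hb => rw [map_add]; exact add_mem ha hb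

/-- The Künneth map on a summand. -/
noncomputable def kun₁ (i j n : ℤ) (h : i + j = n) :
    L.homology i ⊗[A] M.homology j →ₗ[A] (HTor.tensorCx L M).homology n :=
  (Submodule.liftQ _ (chi L M i j n h) (chi_ker L M h)).comp
    ((TensorProduct.map (cl L i) (cl M j)).quotKerEquivOfSurjective
      (TensorProduct.map_surjective (cl_surjective L i) (cl_surjective M j))).symm.toLinearMap

lemma kun₁_map {i j n : ℤ} (h : i + j = n) (w : Z L i ⊗[A] Z M j) :
    kun₁ L M i j n h (TensorProduct.map (cl L i) (cl M j) w) = chi L M i j n h w := by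
  have : ((TensorProduct.map (cl L i) (cl M j)).quotKerEquivOfSurjective
      (TensorProduct.map_surjective (cl_surjective L i) (cl_surjective M j))).symm
      (TensorProduct.map (cl L i) (cl M j) w) = Submodule.Quotient.mk w := by
    apply LinearEquiv.injective ((TensorProduct.map (cl L i) (cl M j)).quotKerEquivOfSurjective
      (TensorProduct.map_surjective (cl_surjective L i) (cl_surjective M j)))
    rw [LinearEquiv.apply_symm_apply, LinearMap.quotKerEquivOfSurjective_apply_mk]
  show Submodule.liftQ _ (chi L M i j n h) (chi_ker L M h) _ = _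
  erw [this]
  rfl

/-- The Künneth map. -/
noncomputable def kun (n : ℤ) : HTor.KunnethSum L M n →ₗ[A] (HTor.tensorCx L M).homology n :=
  DirectSum.toModule A _ _ fun ij => kun₁ L M ij.1.1 ij.1.2 n ij.2

lemma kun_lof (n : ℤ) (ij : HTor.Antidiag n) (t : L.homology ij.1.1 ⊗[A] M.homology ij.1.2) :
    kun L M n (DirectSum.lof A _ _ ij t) = kun₁ L M ij.1.1 ij.1.2 n ij.2 t :=
  by unfold kun; rw [DirectSum.toModule_lof]

theorem isKunnethMap (n : ℤ) : HTor.IsKunnethMap L M n (kun L M n) := by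
  intro ij z z' w hw
  rw [kun_lof, ← cl_iCycles L, ← cl_iCycles M, ← TensorProduct.map_tmul, kun₁_map, chi_tmul,
    ← cl_iCycles (HTor.tensorCx L M)]
  exact congrArg _ (Subtype.ext hw.symm)

end kunneth

end Groth.L28.Kun
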