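import Groth.Agent.L28.TorFacts
import Groth.Prelude.Def_DRing2
import Mathlib.Algebra.Homology.Augment
import Mathlib.LinearAlgebra.TensorProduct.RightExactness

/-!
Dimension shift for Tor along a short exact sequence with flat middle term.
-/

set_option autoImplicit false
universe u

open CategoryTheory CategoryTheory.Limits MonoidalCategory HomologicalComplex
open scoped TensorProduct

namespace Groth.L28.Kun

variable {A : Type u} [CommRing A]

theorem nonempty_equiv_of_ker_eq {Z V W : Type*} [AddCommGroup Z] [Module A Z] [AddCommGroup V]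
    [Module A V] [AddCommGroup W] [Module A W] (f : Z →ₗ[A] V) (g : Z →ₗ[A] W)
    (hf : Function.Surjective f) (hg : Function.Surjective g)
    (h : ∀ z, f z = 0 ↔ g z = 0) : Nonempty (V ≃ₗ[A] W) :=
  ⟨(f.quotKerEquivOfSurjective hf).symm ≪≫ₗ
    Submodule.quotEquivOfEq _ _ (Submodule.ext fun z => by simpa using h z) ≪≫ₗ g.quotKerEquivOfSurjective hg⟩

theorem nonempty_h1_equiv (D : ChainComplex (ModuleCat.{u} A) ℕ) {V W : Type*} [AddCommGroup V]
    [Module A V] [AddCommGroup W] [Module A W] (ε : D.X 1 →ₗ[A] V) (e : V →ₗ[A] W)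
    (hε : Function.Surjective ε) (h₁ : ∀ x, (D.d 1 0).hom x = 0 ↔ e (ε x) = 0)
    (h₂ : Function.Exact (D.d 2 1).hom ε) :
    Nonempty (D.homology 1 ≃ₗ[A] LinearMap.ker e) := by
  let p : D.cycles 1 →ₗ[A] LinearMap.ker e :=
    LinearMap.codRestrict _ (ε.comp (D.iCycles 1).hom) fun z =>
      (h₁ _).mp (HomElt.d_iCycles 1 0 z)
  have hp : Function.Surjective p := fun w => by
    obtain ⟨x, hx⟩ := hε w.1
    obtain ⟨z, hz⟩ := HomElt.exists_cycle (K := D) (j := 1) (k := 0)
      ((ComplexShape.down ℕ).next_eq' rfl) x ((h₁ x).mpr (by rw [hx]; exact w.2))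
    refine ⟨z, Subtype.ext ?_⟩
    show ε (D.iCycles 1 z) = w.1
    rw [hz, hx]
  refine nonempty_equiv_of_ker_eq (D.homologyπ 1).hom p
    (HomElt.homologyπ_surjective D 1) hp fun z => ?_
  rw [HomElt.π_eq_zero_iff (i := 2) ((ComplexShape.down ℕ).prev_eq' rfl) z, ← Subtype.val_inj]
  exact (h₂ (D.iCycles 1 z)).symm

theorem subsingleton_tensor_of_tor_zero (X N : Type u) [AddCommGroup X] [Module A X]
    [AddCommGroup N] [Module A N] (h : Subsingleton (DRing.Tor A 0 X N)) :
    Subsingleton (X ⊗[A] N) := by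
  let Q := projectiveResolution (ModuleCat.of A N)
  have hQ := Balance.isRes_projectiveResolution Q
  obtain ⟨i⟩ := TorFacts.nonempty_iso_right (M := ModuleCat.of A X) (N := ModuleCat.of A N) Q.complex (Q.π.f 0) hQ 0
  let D := ((tensorLeft (ModuleCat.of A X)).mapHomologicalComplex (ComplexShape.down ℕ)).obj Q.complex
  have hz : Subsingleton (D.homology 0) := i.toLinearEquiv.symm.injective.subsingleton
  refine ⟨fun a b => ?_⟩
  suffices ∀ c : X ⊗[A] N, c = 0 by rw [this a, this b]
  intro c
  obtain ⟨x, rfl⟩ := LinearMap.lTensor_surjective X hQ.surj c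
  obtain ⟨z, hz'⟩ := HomElt.exists_cycle (K := D) (j := 0) (k := 0) ChainComplex.next_nat_zero x
    (by rw [D.shape 0 0 (by simp)]; rfl)
  obtain ⟨y, hy⟩ := (HomElt.π_eq_zero_iff (i := 1) ((ComplexShape.down ℕ).prev_eq' rfl) z).mp
    (Subsingleton.elim _ _)
  rw [hz'] at hy
  rw [← hy]
  exact (lTensor_exact X hQ.exact₀ hQ.surj).apply_apply_eq_zero y

variable (X : Type u) [AddCommGroup X] [Module A X] {K G H : Type u} [AddCommGroup K] [Module A K]
  [AddCommGroup G] [Module A G] [AddCommGroup H] [Module A H]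

/-- The spliced resolution. -/
noncomputable def splice (e : K →ₗ[A] G) : ChainComplex (ModuleCat.{u} A) ℕ :=
  ChainComplex.augment (projectiveResolution (ModuleCat.of A K)).complex
    ((projectiveResolution (ModuleCat.of A K)).π.f 0 ≫ ModuleCat.ofHom e)
    (by rw [← Category.assoc,
          ProjectiveResolution.complex_d_comp_π_f_zero, zero_comp])

theorem isRes_splice [Module.Flat A G] (e : K →ₗ[A] G) (π : G →ₗ[A] H)
    (he : Function.Injective e) (hex : Function.Exact e π) (hπ : Function.Surjective π) :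
    Balance.IsRes (N := ModuleCat.of A H) (splice e) (ModuleCat.ofHom π) := by
  let Q := projectiveResolution (ModuleCat.of A K)
  have hQ := Balance.isRes_projectiveResolution Q
  refine ⟨hπ, ?_, ?_, ?_⟩
  · intro g
    constructor
    · intro hg
      obtain ⟨k, rfl⟩ := (hex g).mp hg
      obtain ⟨r, rfl⟩ := hQ.surj k
      exact ⟨r, rfl⟩
    · rintro ⟨r, rfl⟩
      exact hex.apply_apply_eq_zero _
  · intro n
    match n with
    | 0 =>
      intro r
      constructor
      · intro hr
        exact (hQ.exact₀ r).mp (he (hr.trans (map_zero e).symm))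
      · rintro ⟨y, rfl⟩
        exact (congrArg e (hQ.exact₀.apply_apply_eq_zero y)).trans (map_zero e)
    | n + 1 => exact hQ.exact n
  · intro n
    match n with
    | 0 => exact inferInstanceAs (Module.Flat A G)
    | n + 1 => exact hQ.flat n

theorem nonempty_tor_succ [Module.Flat A G] (e : K →ₗ[A] G) (π : G →ₗ[A] H)
    (he : Function.Injective e) (hex : Function.Exact e π) (hπ : Function.Surjective π) (m : ℕ) :
    Nonempty (DRing.Tor A (m + 2) X H ≃ₗ[A] DRing.Tor A (m + 1) X K) := by
  let Q := projectiveResolution (ModuleCat.of A K)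
  obtain ⟨i⟩ := TorFacts.nonempty_iso_right (M := ModuleCat.of A X) (splice e) _
    (isRes_splice e π he hex hπ) (m + 2)
  let D := ((tensorLeft (ModuleCat.of A X)).mapHomologicalComplex (ComplexShape.down ℕ)).obj
    (splice e)
  let D' := ((tensorLeft (ModuleCat.of A X)).mapHomologicalComplex (ComplexShape.down ℕ)).obj
    Q.complex
  let j : D.homology (m + 2) ≅ D'.homology (m + 1) :=
    D.homologyIsoSc' (m + 3) (m + 2) (m + 1) ((ComplexShape.down ℕ).prev_eq' rfl)
        ((ComplexShape.down ℕ).next_eq' rfl) ≪≫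
      ShortComplex.homologyMapIso (ShortComplex.isoMk (Iso.refl _) (Iso.refl _) (Iso.refl _)
        (by exact (Category.id_comp _).trans (Category.comp_id _).symm)
        (by exact (Category.id_comp _).trans (Category.comp_id _).symm) :
        D.sc' (m + 3) (m + 2) (m + 1) ≅ D'.sc' (m + 2) (m + 1) m) ≪≫
      (D'.homologyIsoSc' (m + 2) (m + 1) m ((ComplexShape.down ℕ).prev_eq' rfl)
        ((ComplexShape.down ℕ).next_eq' rfl)).symm
  exact ⟨(i ≪≫ j ≪≫ (Q.isoLeftDerivedObj ((tensoringLeft _).obj (ModuleCat.of A X))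
    (m + 1)).symm).toLinearEquiv⟩

theorem nonempty_tor_one [Module.Flat A G] (e : K →ₗ[A] G) (π : G →ₗ[A] H)
    (he : Function.Injective e) (hex : Function.Exact e π) (hπ : Function.Surjective π) :
    Nonempty (DRing.Tor A 1 X H ≃ₗ[A] LinearMap.ker (LinearMap.lTensor X e)) := by
  let Q := projectiveResolution (ModuleCat.of A K)
  have hQ := Balance.isRes_projectiveResolution Q
  obtain ⟨i⟩ := TorFacts.nonempty_iso_right (M := ModuleCat.of A X) (splice e) _
    (isRes_splice e π he hex hπ) 1
  let D := ((tensorLeft (ModuleCat.of A X)).mapHomologicalComplex (ComplexShape.down ℕ)).obj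
    (splice e)
  let ε : Q.complex.X 0 →ₗ[A] K := (Q.π.f 0).hom
  obtain ⟨j⟩ := nonempty_h1_equiv D (LinearMap.lTensor X ε) (LinearMap.lTensor X e)
    (LinearMap.lTensor_surjective X (g := ε) hQ.surj)
    (fun x => Iff.of_eq (congrArg (· = 0) (LinearMap.lTensor_comp_apply (M := X) e ε x)))
    (lTensor_exact X (g := ε) hQ.exact₀ hQ.surj)
  exact ⟨i.toLinearEquiv ≪≫ₗ j⟩

end Groth.L28.Kun
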