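import Groth.Agent.L28.Kun.Cls
import Mathlib.RingTheory.Flat.Basic
import Mathlib.LinearAlgebra.Finsupp.LinearCombination

/-!
The cone of a free cover of the cohomology and its effect on the tensor product with a complex.
-/

set_option autoImplicit false
universe u

open CategoryTheory CategoryTheory.Limits MonoidalCategory HomologicalComplex
open scoped TensorProduct
open Groth.L28.TensorCx

namespace Groth.L28.Kun

variable {A : Type u} [CommRing A] (L M : DRing.Cx A)

/-- The free cover of `H^j(M)`. -/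
abbrev G (j : ℤ) : Type u := {h : M.homology j // h ≠ 0} →₀ A

/-- Cycles lifting the free cover. -/
noncomputable def φZ (j : ℤ) : G M j →ₗ[A] Z M j :=
  Finsupp.linearCombination A fun h => (cl_surjective M j h.1).choose

/-- The free cover as a map into the complex. -/
noncomputable def φ (j : ℤ) : G M j →ₗ[A] M.X j := (Z M j).subtype.comp (φZ M j)

/-- The cover of cohomology. -/
noncomputable def πG (j : ℤ) : G M j →ₗ[A] M.homology j := (cl M j).comp (φZ M j)

lemma πG_surjective (j : ℤ) : Function.Surjective (πG M j) := fun h => by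
  by_cases h0 : h = 0
  · exact ⟨0, by rw [map_zero, h0]⟩
  · refine ⟨Finsupp.single ⟨h, h0⟩ 1, ?_⟩
    rw [πG, LinearMap.comp_apply, φZ, Finsupp.linearCombination_single, one_smul]
    exact (cl_surjective M j h).choose_spec

lemma d_φ (j k : ℤ) (g : G M j) (hk : j + 1 = k) : M.d j k (φ M j g) = 0 := by
  subst hk
  exact (φZ M j g).2

lemma subsingleton_G {j : ℤ} (h : Subsingleton (M.homology j)) : Subsingleton (G M j) := by
  have : IsEmpty {x : M.homology j // x ≠ 0} := ⟨fun x => x.2 (Subsingleton.elim _ _)⟩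
  infer_instance

/-- The differential of the cone. -/
noncomputable def d1 (j : ℤ) : M.X j × G M (j + 1) →ₗ[A] M.X (j + 1) × G M (j + 1 + 1) :=
  ((M.d j (j + 1)).hom.comp (LinearMap.fst A _ _) + (φ M (j + 1)).comp (LinearMap.snd A _ _)).prod 0

lemma d1_comp (j : ℤ) : (d1 M (j + 1)).comp (d1 M j) = 0 := by
  refine LinearMap.ext fun x => Prod.ext ?_ rfl
  show (M.d (j + 1) (j + 1 + 1)).hom ((M.d j (j + 1)).hom x.1 + φ M (j + 1) x.2) +
    φ M (j + 1 + 1) 0 = 0
  rw [map_zero, add_zero, map_add, show (M.d (j + 1) (j + 1 + 1)).hom (φ M (j + 1) x.2) = 0 from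
    d_φ M _ _ x.2 rfl, add_zero, ← ConcreteCategory.comp_apply, M.d_comp_d]
  rfl

/-- The cone. -/
noncomputable def M1 : DRing.Cx A :=
  CochainComplex.of (fun j => ModuleCat.of A (M.X j × G M (j + 1)))
    (fun j => ModuleCat.ofHom (d1 M j)) (fun j => ModuleCat.hom_ext (d1_comp M j))

lemma M1_d (j : ℤ) : (M1 M).d j (j + 1) = ModuleCat.ofHom (d1 M j) := by simp [M1]

/-- `prM`. -/
noncomputable def prM (j : ℤ) : (M1 M).X j →ₗ[A] M.X j := LinearMap.fst A _ _

/-- `prG`. -/
noncomputable def prG (j : ℤ) : (M1 M).X j →ₗ[A] G M (j + 1) := LinearMap.snd A _ _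

/-- `inM`. -/
noncomputable def inM (j : ℤ) : M.X j →ₗ[A] (M1 M).X j := LinearMap.inl A _ _

/-- `inG`. -/
noncomputable def inG (j : ℤ) : G M (j + 1) →ₗ[A] (M1 M).X j := LinearMap.inr A _ _

lemma prG_d (j k : ℤ) : (prG M k).comp ((M1 M).d j k).hom = 0 := by
  by_cases h : j + 1 = k
  · subst h
    rw [M1_d]
    rfl
  · rw [(M1 M).shape j k (by simpa using h), ModuleCat.hom_zero, LinearMap.comp_zero]

lemma prM_d (j : ℤ) : (prM M (j + 1)).comp ((M1 M).d j (j + 1)).hom =
    (M.d j (j + 1)).hom.comp (prM M j) + (φ M (j + 1)).comp (prG M j) := by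
  rw [M1_d]
  rfl

/-- `M → M₁`. -/
noncomputable def ι : M ⟶ M1 M where
  f j := ModuleCat.ofHom (inM M j)
  comm' j k (h : j + 1 = k) := by
    subst h
    rw [M1_d]
    refine ModuleCat.hom_ext (LinearMap.ext fun x => ?_)
    show d1 M j (inM M j x) = inM M (j + 1) ((M.d j (j + 1)).hom x)
    refine Prod.ext ?_ rfl
    show (M.d j (j + 1)).hom x + φ M (j + 1) 0 = _
    rw [map_zero, add_zero]
    rfl

lemma ι_f (j : ℤ) : ((ι M).f j).hom = inM M j := rfl

lemma isZero_M1 {b : ℤ} (hb : ∀ q, b < q → IsZero (M.X q)) (q : ℤ) (hq : b < q) :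
    IsZero ((M1 M).X q) := by
  have h1 : Subsingleton (M.X q) := ModuleCat.isZero_iff_subsingleton.mp (hb q hq)
  have hs : Subsingleton (M.homology (q + 1)) := by
    refine ⟨fun a c => ?_⟩
    have : Subsingleton (M.X (q + 1)) := ModuleCat.isZero_iff_subsingleton.mp (hb _ (by omega))
    obtain ⟨a, rfl⟩ := cl_surjective M _ a
    obtain ⟨c, rfl⟩ := cl_surjective M _ c
    rw [show a = c from Subtype.ext (Subsingleton.elim _ _)]
  have := subsingleton_G M hs
  have : Subsingleton (M.X q × G M (q + 1)) := inferInstance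
  exact ModuleCat.isZero_iff_subsingleton.mpr this

section e

lemma prG_boundary {q : ℤ} (x : Z (M1 M) q) (hx : cl (M1 M) q x = 0) : prG M q x.1 = 0 := by
  obtain ⟨y, hy⟩ := (cl_eq_zero_iff _ (m := q - 1) (by omega) x).mp hx
  rw [← hy]
  exact LinearMap.congr_fun (prG_d M (q - 1) q) y

/-- `H^q(M₁) → G^{q+1}`. -/
noncomputable def e (q : ℤ) : (M1 M).homology q →ₗ[A] G M (q + 1) :=
  (Submodule.liftQ _ ((prG M q).comp (Z (M1 M) q).subtype) (fun x hx => prG_boundary M x hx)).comp
    ((cl (M1 M) q).quotKerEquivOfSurjective (cl_surjective _ q)).symm.toLinearMap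

lemma e_cl (q : ℤ) (x : Z (M1 M) q) : e M q (cl (M1 M) q x) = prG M q x.1 := by
  have : ((cl (M1 M) q).quotKerEquivOfSurjective (cl_surjective _ q)).symm (cl (M1 M) q x) =
      Submodule.Quotient.mk x := by
    apply LinearEquiv.injective ((cl (M1 M) q).quotKerEquivOfSurjective (cl_surjective _ q))
    rw [LinearEquiv.apply_symm_apply, LinearMap.quotKerEquivOfSurjective_apply_mk]
  show Submodule.liftQ _ ((prG M q).comp (Z (M1 M) q).subtype)
    (fun x hx => prG_boundary M x hx) _ = _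
  erw [this]
  rfl

lemma cycle_eq {q : ℤ} (x : Z (M1 M) q) :
    (M.d q (q + 1)).hom (prM M q x.1) + φ M (q + 1) (prG M q x.1) = 0 := by
  have h : prM M (q + 1) (((M1 M).d q (q + 1)).hom x.1) = 0 :=
    (congrArg (prM M (q + 1)) x.2).trans (map_zero _)
  rw [← LinearMap.comp_apply, prM_d] at h
  exact h

lemma exact_e_πG (q : ℤ) : Function.Exact (e M q) (πG M (q + 1)) := by
  intro g
  constructor
  · intro hg
    rw [πG, LinearMap.comp_apply, cl_eq_zero_iff _ (m := q) rfl] at hg
    obtain ⟨m, hm⟩ := hg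
    let y : (M1 M).X q := inM M q (-m) + inG M q g
    have hy : y ∈ Z (M1 M) q := by
      show ((M1 M).d q (q + 1)).hom y = 0
      rw [M1_d]
      show d1 M q ((-m, 0) + (0, g)) = 0
      refine Prod.ext ?_ rfl
      show (M.d q (q + 1)).hom (-m + 0) + φ M (q + 1) (0 + g) = 0
      rw [add_zero, zero_add, map_neg, show (M.d q (q + 1)).hom m = φ M (q + 1) g from hm,
        neg_add_cancel]
    refine ⟨cl (M1 M) q ⟨y, hy⟩, ?_⟩
    rw [e_cl]
    show (0 : G M (q + 1)) + g = g
    rw [zero_add]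
  · rintro ⟨h, rfl⟩
    obtain ⟨x, rfl⟩ := cl_surjective _ q h
    rw [e_cl, πG, LinearMap.comp_apply, cl_eq_zero_iff _ (m := q) rfl]
    refine ⟨-prM M q x.1, ?_⟩
    rw [map_neg]
    exact neg_eq_of_add_eq_zero_right (cycle_eq M x)

lemma e_injective (q : ℤ) : Function.Injective (e M q) := by
  rw [injective_iff_map_eq_zero]
  intro h hh
  obtain ⟨x, rfl⟩ := cl_surjective _ q h
  rw [e_cl] at hh
  have hm : prM M q x.1 ∈ Z M q := by
    have h2 := cycle_eq M x
    rw [hh, map_zero, add_zero] at h2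
    exact h2
  obtain ⟨g, hg⟩ := πG_surjective M q (cl M q ⟨_, hm⟩)
  obtain ⟨y, hy⟩ := (cl_eq_zero_iff M (m := q - 1) (by omega)
    (⟨_, hm⟩ - φZ M q g)).mp (by rw [map_sub, ← LinearMap.comp_apply, ← πG, hg, sub_self])
  rw [cl_eq_zero_iff _ (m := q - 1) (by omega)]
  obtain ⟨r, rfl⟩ : ∃ r, q = r + 1 := ⟨q - 1, by omega⟩
  have hr : r + 1 - 1 = r := by omega
  revert y hy
  rw [hr]
  intro y hy
  refine ⟨inM M r y + inG M r g, ?_⟩
  rw [M1_d]
  show d1 M r ((y, 0) + (0, g)) = x.1
  refine Prod.ext ?_ hh.symm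
  show (M.d r (r + 1)).hom (y + 0) + φ M (r + 1) (0 + g) = prM M (r + 1) x.1
  rw [add_zero, zero_add, show (M.d r (r + 1)).hom y = prM M (r + 1) x.1 - φ M (r + 1) g from hy,
    sub_add_cancel]

lemma homology_M1_subsingleton {q : ℤ} (h : Subsingleton (M.homology (q + 1))) :
    Subsingleton ((M1 M).homology q) :=
  have := subsingleton_G M h
  (e_injective M q).subsingleton

end e

section delta

/-- The `G`-component. -/
noncomputable def cG (i q n : ℤ) :
    (HTor.tensorCx L (M1 M)).X n →ₗ[A] L.X i ⊗[A] G M (q + 1) :=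
  (LinearMap.lTensor (L.X i) (prG M q)).comp (pc L (M1 M) i q n)

/-- `Z ⊗ G → L ⊗ G`. -/
noncomputable def ψ (i q : ℤ) : Z L i ⊗[A] G M (q + 1) →ₗ[A] L.X i ⊗[A] G M (q + 1) :=
  LinearMap.rTensor (G M (q + 1)) (Z L i).subtype

lemma ψ_injective (i q : ℤ) : Function.Injective (ψ L M i q) :=
  Module.Flat.rTensor_preserves_injective_linearMap _ (Submodule.subtype_injective _)

lemma exists_ψ {i q : ℤ} {w : L.X i ⊗[A] G M (q + 1)}
    (h : LinearMap.rTensor (G M (q + 1)) (L.d i (i + 1)).hom w = 0) : ∃ t, ψ L M i q t = w :=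
  (Module.Flat.rTensor_exact (G M (q + 1)) (LinearMap.exact_subtype_ker_map _) w).mp h

lemma cG_d {i' i q n n' : ℤ} (hi : i' + 1 = i) (hn : n + 1 = n') (hiq : i + q = n')
    (x : (HTor.tensorCx L (M1 M)).X n) :
    cG L M i q n' ((HTor.tensorCx L (M1 M)).d n n' x) =
      LinearMap.rTensor (G M (q + 1)) (L.d i' i).hom (cG L M i' q n x) := by
  simp only [cG, LinearMap.comp_apply]
  rw [pc_d L (M1 M) i' i (q - 1) q n n' hi (by omega) hn hiq, map_add, map_zsmul,
    ← LinearMap.lTensor_comp_apply, prG_d, LinearMap.lTensor_zero, LinearMap.zero_apply, smul_zero,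
    add_zero, ← LinearMap.comp_apply, LinearMap.lTensor_comp_rTensor,
    ← LinearMap.comp_apply (LinearMap.rTensor _ _), LinearMap.rTensor_comp_lTensor]

lemma cG_mem_range {i q n : ℤ} (hiq : i + q = n) (x : Z (HTor.tensorCx L (M1 M)) n) :
    cG L M i q n x.1 ∈ LinearMap.range (ψ L M i q) := by
  refine exists_ψ L M ?_
  rw [← cG_d L M rfl (rfl : n + 1 = n + 1) (by omega),
    show (HTor.tensorCx L (M1 M)).d n (n + 1) x.1 = 0 from x.2, map_zero]

/-- The connecting map on cycles. -/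
noncomputable def δZ (i q n : ℤ) (h : i + q = n) :
    Z (HTor.tensorCx L (M1 M)) n →ₗ[A] L.homology i ⊗[A] G M (q + 1) :=
  (LinearMap.rTensor _ (cl L i)).comp
    ((LinearEquiv.ofInjective _ (ψ_injective L M i q)).symm.toLinearMap.comp
      (((cG L M i q n).comp (Z (HTor.tensorCx L (M1 M)) n).subtype).codRestrict _
        (fun x => cG_mem_range L M h x)))

lemma δZ_eq {i q n : ℤ} (h : i + q = n) (x : Z (HTor.tensorCx L (M1 M)) n)
    (t : Z L i ⊗[A] G M (q + 1)) (ht : ψ L M i q t = cG L M i q n x.1) :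
    δZ L M i q n h x = LinearMap.rTensor _ (cl L i) t := by
  show LinearMap.rTensor _ (cl L i) ((LinearEquiv.ofInjective _ (ψ_injective L M i q)).symm _) = _
  congr 1
  apply (LinearEquiv.ofInjective _ (ψ_injective L M i q)).injective
  rw [LinearEquiv.apply_symm_apply]
  exact Subtype.ext ht.symm

lemma δZ_boundary {i q n : ℤ} (h : i + q = n) :
    LinearMap.ker (cl (HTor.tensorCx L (M1 M)) n) ≤ LinearMap.ker (δZ L M i q n h) := by
  intro x hx
  obtain ⟨u, hu⟩ := (cl_eq_zero_iff _ (m := n - 1) (by omega) x).mp hx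
  let toZ : L.X (i - 1) →ₗ[A] Z L i := LinearMap.codRestrict _ (L.d (i - 1) i).hom (d_mem_Z L _ _)
  show δZ L M i q n h x = 0
  rw [δZ_eq L M h x (LinearMap.rTensor _ toZ (cG L M (i - 1) q (n - 1) u))]
  · have : (cl L i).comp toZ = 0 := LinearMap.ext fun y =>
      (cl_eq_zero_iff L (m := i - 1) (by omega) _).mpr ⟨y, rfl⟩
    rw [← LinearMap.rTensor_comp_apply, this, LinearMap.rTensor_zero, LinearMap.zero_apply]
  · rw [ψ, ← LinearMap.rTensor_comp_apply, ← hu,
      cG_d L M (i' := i - 1) (by omega) (by omega) h]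
    rfl

/-- The connecting map. -/
noncomputable def δ (i q n : ℤ) (h : i + q = n) :
    (HTor.tensorCx L (M1 M)).homology n →ₗ[A] L.homology i ⊗[A] G M (q + 1) :=
  (Submodule.liftQ _ (δZ L M i q n h) (δZ_boundary L M h)).comp
    ((cl _ n).quotKerEquivOfSurjective (cl_surjective _ n)).symm.toLinearMap

lemma δ_cl {i q n : ℤ} (h : i + q = n) (x : Z (HTor.tensorCx L (M1 M)) n) :
    δ L M i q n h (cl _ n x) = δZ L M i q n h x := by
  have : ((cl (HTor.tensorCx L (M1 M)) n).quotKerEquivOfSurjective (cl_surjective _ n)).symm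
      (cl _ n x) = Submodule.Quotient.mk x := by
    apply LinearEquiv.injective
      ((cl (HTor.tensorCx L (M1 M)) n).quotKerEquivOfSurjective (cl_surjective _ n))
    rw [LinearEquiv.apply_symm_apply, LinearMap.quotKerEquivOfSurjective_apply_mk]
  show Submodule.liftQ _ (δZ L M i q n h) (δZ_boundary L M h) _ = _
  erw [this]
  rfl

/-- `H^n(L ⊗ M) → H^n(L ⊗ M₁)`. -/
noncomputable def jH (n : ℤ) :
    (HTor.tensorCx L M).homology n →ₗ[A] (HTor.tensorCx L (M1 M)).homology n :=
  (HomologicalComplex.homologyMap (HomologicalComplex.tensorHom (𝟙 L) (ι M)) n).hom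

lemma pc_ι (i q n : ℤ) (x : (HTor.tensorCx L M).X n) :
    pc L (M1 M) i q n ((HomologicalComplex.tensorHom (𝟙 L) (ι M)).f n x) =
      LinearMap.lTensor (L.X i) (inM M q) (pc L M i q n x) := by
  rw [pc_map, HomologicalComplex.id_f, ModuleCat.hom_id, ← LinearMap.lTensor_def, ι_f]

lemma δ_jH {i q n : ℤ} (h : i + q = n) (v : (HTor.tensorCx L M).homology n) :
    δ L M i q n h (jH L M n v) = 0 := by
  obtain ⟨x, rfl⟩ := cl_surjective _ n v
  show δ L M i q n h (HomologicalComplex.homologyMap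
    (HomologicalComplex.tensorHom (𝟙 L) (ι M)) n (cl _ n x)) = 0
  rw [homologyMap_cl, δ_cl, δZ_eq L M h _ 0, map_zero]
  rw [map_zero, cG, LinearMap.comp_apply]
  symm
  rw [pc_ι, ← LinearMap.lTensor_comp_apply,
    show (prG M q).comp (inM M q) = 0 from rfl, LinearMap.lTensor_zero, LinearMap.zero_apply]

lemma δ_kun₁_self {i q n : ℤ} (h : i + q = n) (w : L.homology i ⊗[A] (M1 M).homology q) :
    δ L M i q n h (kun₁ L (M1 M) i q n h w) = LinearMap.lTensor _ (e M q) w := by
  obtain ⟨w, rfl⟩ := TensorProduct.map_surjective (cl_surjective L i) (cl_surjective (M1 M) q) w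
  rw [kun₁_map]
  obtain ⟨hm, he⟩ := chi_eq L (M1 M) h w
  rw [he, δ_cl, δZ_eq L M h _ (LinearMap.lTensor (Z L i) ((prG M q).comp (Z (M1 M) q).subtype) w)]
  · have : (e M q).comp (cl (M1 M) q) = (prG M q).comp (Z (M1 M) q).subtype :=
      LinearMap.ext fun x => e_cl M q x
    rw [← this, ← LinearMap.comp_apply, LinearMap.rTensor_comp_lTensor,
      ← LinearMap.comp_apply (LinearMap.lTensor _ (e M q)), LinearMap.lTensor_comp_map]
  · rw [cG, LinearMap.comp_apply, pc_ins_self, ψ, ← LinearMap.comp_apply,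
      LinearMap.rTensor_comp_lTensor, ← LinearMap.comp_apply (LinearMap.lTensor _ (prG M q)),
      LinearMap.lTensor_comp_map]

lemma δ_kun₁_ne {i q i' q' n : ℤ} (h : i + q = n) (h' : i' + q' = n) (hne : i' ≠ i)
    (w : L.homology i' ⊗[A] (M1 M).homology q') :
    δ L M i q n h (kun₁ L (M1 M) i' q' n h' w) = 0 := by
  obtain ⟨w, rfl⟩ := TensorProduct.map_surjective (cl_surjective L i') (cl_surjective (M1 M) q') w
  rw [kun₁_map]
  obtain ⟨hm, he⟩ := chi_eq L (M1 M) h' w
  rw [he, δ_cl, δZ_eq L M h _ 0, map_zero]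
  rw [map_zero, cG, LinearMap.comp_apply]
  symm
  show LinearMap.lTensor (L.X i) (prG M q) (proj L (M1 M) i q n (ins L (M1 M) i' q' n h' _)) = 0
  rw [proj_ins_ne L (M1 M) h' (fun hh => hne hh.1), map_zero]

lemma δ_kun {n : ℤ} (ij : HTor.Antidiag n) (s : HTor.KunnethSum L (M1 M) n) :
    δ L M ij.1.1 ij.1.2 n ij.2 (kun L (M1 M) n s) =
      LinearMap.lTensor _ (e M ij.1.2) (DirectSum.component A _ _ ij s) := by
  induction s using DirectSum.induction_on with
  | zero => simp
  | add a b ha hb => simp only [map_add, ha, hb]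
  | of kl w =>
    rw [← DirectSum.lof_eq_of A]
    by_cases hk : kl = ij
    · subst hk
      rw [kun_lof, δ_kun₁_self, DirectSum.component.lof_self]
    · have hne : kl.1.1 ≠ ij.1.1 := fun h => hk (by
        obtain ⟨⟨a, b⟩, hab⟩ := kl
        obtain ⟨⟨c, d⟩, hcd⟩ := ij
        simp only at h hab hcd
        subst h
        obtain rfl : b = d := by omega
        rfl)
      rw [kun_lof, δ_kun₁_ne L M ij.2 kl.2 hne, DirectSum.component.of, dif_neg hk, map_zero]

end delta

end Groth.L28.Kun
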