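import Groth.Agent.L28.Kun.Main

/-!
The filtration induced by the Künneth spectral sequence, by induction along cones of free covers.
-/

set_option autoImplicit false
universe u

open CategoryTheory CategoryTheory.Limits MonoidalCategory HomologicalComplex
open scoped TensorProduct

namespace Groth.L28.Kun

variable {A : Type u} [CommRing A]

/-- `(i, q) ↦ (i, q + 1)`. -/
def shiftIdx (n : ℤ) (p : ℕ) :
    {ij : ℤ × ℤ // ij.1 + ij.2 - (p : ℤ) = n} ≃
      {ij : ℤ × ℤ // ij.1 + ij.2 - ((p + 1 : ℕ) : ℤ) = n} where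
  toFun k := ⟨(k.1.1, k.1.2 + 1), by have := k.2; push_cast; omega⟩
  invFun k := ⟨(k.1.1, k.1.2 - 1), by have := k.2; push_cast at this; omega⟩
  left_inv k := Subtype.ext (Prod.ext rfl (add_sub_cancel_right k.1.2 1))
  right_inv k := Subtype.ext (Prod.ext rfl (sub_add_cancel k.1.2 1))

/-- `(i, q) ↦ (i, q + 1)`, in bottom degree. -/
def shiftIdx₀ (n : ℤ) : HTor.Antidiag n ≃ {ij : ℤ × ℤ // ij.1 + ij.2 - ((1 : ℕ) : ℤ) = n} where
  toFun k := ⟨(k.1.1, k.1.2 + 1), by have := k.2; push_cast; omega⟩
  invFun k := ⟨(k.1.1, k.1.2 - 1), by have := k.2; push_cast at this; omega⟩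
  left_inv k := Subtype.ext (Prod.ext rfl (add_sub_cancel_right k.1.2 1))
  right_inv k := Subtype.ext (Prod.ext rfl (sub_add_cancel k.1.2 1))

variable (L M : DRing.Cx A)

theorem torSum_shift (n : ℤ) (p : ℕ) :
    Nonempty (HTor.TorSum L (M1 M) n (p + 1) ≃ₗ[A] HTor.TorSum L M n (p + 1 + 1)) := by
  let ee := DirectSum.lequivCongrLeft A
    (M := fun k : {ij : ℤ × ℤ // ij.1 + ij.2 - ((p + 1 + 1 : ℕ) : ℤ) = n} =>
      DRing.Tor A (p + 1 + 1) (L.homology k.1.1) (M.homology k.1.2)) (shiftIdx n (p + 1)).symm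
  let c := fun k : {ij : ℤ × ℤ // ij.1 + ij.2 - ((p + 1 : ℕ) : ℤ) = n} =>
    (nonempty_tor_succ (L.homology k.1.1) (e M k.1.2) (πG M (k.1.2 + 1))
      (e_injective M _) (exact_e_πG M _) (πG_surjective M _) p).some
  exact ⟨(ee ≪≫ₗ DirectSum.congrLinearEquiv c).symm⟩

theorem exists_torSum_one (n : ℤ) :
    ∃ g : HTor.TorSum L M n 1 →ₗ[A] HTor.KunnethSum L (M1 M) n,
      ∀ s, (∀ ij : HTor.Antidiag n,
        LinearMap.lTensor _ (e M ij.1.2) (DirectSum.component A _ _ ij s) = 0) →
        s ∈ LinearMap.range g := by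
  let e' := DirectSum.lequivCongrLeft A
    (M := fun k : {ij : ℤ × ℤ // ij.1 + ij.2 - ((1 : ℕ) : ℤ) = n} =>
      DRing.Tor A 1 (L.homology k.1.1) (M.homology k.1.2)) (shiftIdx₀ n).symm
  let c := fun k : HTor.Antidiag n =>
    (nonempty_tor_one (L.homology k.1.1) (e M k.1.2) (πG M (k.1.2 + 1))
      (e_injective M _) (exact_e_πG M _) (πG_surjective M _)).some
  refine ⟨(DirectSum.lmap fun k : HTor.Antidiag n =>
    (LinearMap.ker (LinearMap.lTensor (L.homology k.1.1) (e M k.1.2))).subtype).comp
      (e' ≪≫ₗ DirectSum.congrLinearEquiv c).toLinearMap, fun s hs => ?_⟩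
  rw [LinearEquiv.range_comp, DirectSum.range_lmap]
  intro k _
  exact ⟨⟨DirectSum.component A _ _ k s, hs k⟩, rfl⟩

theorem exists_filtration {a : ℤ} (hL : ∀ p, a < p → IsZero (L.X p))
    (hf : DRing.TermwiseFlat L) {b : ℤ} (n : ℤ) (k : ℕ) :
    ∀ (M : DRing.Cx A), (∀ q, b < q → IsZero (M.X q)) →
      (∀ j, n - a + k ≤ j → Subsingleton (M.homology j)) →
      ∃ F : ℕ → Submodule A ((HTor.tensorCx L M).homology n),
        F 0 = LinearMap.range (kun L M n) ∧ Monotone F ∧ F k = ⊤ ∧
          ∀ p : ℕ, HTor.IsSubquotient A (HTor.grSucc F p) (HTor.TorSum L M n (p + 1)) := by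
  induction k with
  | zero =>
    intro M hM h
    have := subsingleton_of_bound L M hL hM hf n (fun j hj => h j (by simpa using hj))
    exact ⟨fun _ => LinearMap.range (kun L M n), rfl, monotone_const, Subsingleton.elim _ _,
      fun p => subq_of_subsingleton⟩
  | succ k ih =>
    intro M hM h
    obtain ⟨F', hF0, hmono, hFk, hgr⟩ := ih (M1 M) (isZero_M1 M hM) fun j hj =>
      homology_M1_subsingleton M (h (j + 1) (by push_cast; omega))
    let j := jH L M n
    let F : ℕ → Submodule A ((HTor.tensorCx L M).homology n) := fun p =>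
      match p with
      | 0 => LinearMap.range (kun L M n)
      | p + 1 => (F' p).comap j
    have hker : LinearMap.ker j = F 0 := ker_jH L M hL hM n
    refine ⟨F, rfl, monotone_nat_of_le_succ fun p => ?_, ?_, fun p => ?_⟩
    · match p with
      | 0 => rw [← hker]; exact LinearMap.ker_le_comap j
      | p + 1 => exact Submodule.comap_mono (hmono p.le_succ)
    · show (F' k).comap j = ⊤
      rw [hFk, Submodule.comap_top]
    match p with
    | 0 =>
      obtain ⟨g, hg⟩ := exists_torSum_one L M n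
      let f : HTor.grSucc F 0 →ₗ[A] (HTor.tensorCx L (M1 M)).homology n :=
        Submodule.liftQ _ (j.comp (F 1).subtype) fun x hx => by
          have : x.1 ∈ LinearMap.ker j := hker ▸ hx
          exact this
      refine subq_of_injective f.rangeRestrict ?_ (subq_of_le_range ((kun L (M1 M) n).comp g) _ ?_)
      · rw [injective_iff_map_eq_zero]
        intro x hx
        induction x using Submodule.Quotient.induction_on with
        | _ x =>
          rw [Submodule.Quotient.mk_eq_zero]
          show x.1 ∈ F 0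
          rw [← hker]
          exact congrArg Subtype.val hx
      · rintro _ ⟨x, rfl⟩
        induction x using Submodule.Quotient.induction_on with
        | _ x =>
          have h1 : j x.1 ∈ F' 0 := x.2
          rw [hF0] at h1
          obtain ⟨s, hs⟩ := h1
          obtain ⟨t, rfl⟩ := hg s (lTensor_e_eq_zero L M ⟨x.1, hs.symm⟩)
          exact ⟨t, hs⟩
    | p + 1 =>
      obtain ⟨e⟩ := torSum_shift L M n p
      refine subq_congr_right e (subq_of_injective
        (Submodule.mapQ ((F (p + 1)).comap (F (p + 1 + 1)).subtype)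
          ((F' p).comap (F' (p + 1)).subtype)
          (j.restrict (p := F (p + 1 + 1)) (q := F' (p + 1)) fun _ hx => hx)
          fun x hx => hx) ?_ (hgr p))
      rw [injective_iff_map_eq_zero]
      intro x hx
      induction x using Submodule.Quotient.induction_on with
      | _ x =>
        rw [Submodule.mapQ_apply, Submodule.Quotient.mk_eq_zero] at hx
        rw [Submodule.Quotient.mk_eq_zero]
        exact hx

theorem exists_kunneth_filtration (hf : DRing.TermwiseFlat L)
    (bL : ∃ b : ℤ, DRing.VanishesAbove L b) (bM : ∃ b : ℤ, DRing.VanishesAbove M b) (n : ℤ) :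
    ∃ (N : ℕ) (F : ℕ → Submodule A ((HTor.tensorCx L M).homology n)),
      F 0 = LinearMap.range (kun L M n) ∧ Monotone F ∧ F N = ⊤ ∧
        ∀ p : ℕ, HTor.IsSubquotient A (HTor.grSucc F p) (HTor.TorSum L M n (p + 1)) := by
  obtain ⟨a, hL⟩ := bL
  obtain ⟨b, hM⟩ := bM
  refine ⟨(b + 1 - (n - a)).toNat,
    exists_filtration L hL hf n (b + 1 - (n - a)).toNat M hM fun j hj => ?_⟩
  refine ⟨fun x y => ?_⟩
  have : Subsingleton (M.X j) := ModuleCat.isZero_iff_subsingleton.mp (hM j (by omega))
  obtain ⟨x, rfl⟩ := cl_surjective M j x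
  obtain ⟨y, rfl⟩ := cl_surjective M j y
  rw [show x = y from Subtype.ext (Subsingleton.elim _ _)]

end Groth.L28.Kun
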