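import Groth.Agent.L28.Kun.Filt

/-!
Consequences of the Künneth filtration; injectivity of the Künneth map.
-/

set_option autoImplicit false
universe u

open CategoryTheory CategoryTheory.Limits MonoidalCategory HomologicalComplex
open scoped TensorProduct
open Groth.L28.TensorCx

namespace Groth.L28.Kun

variable {A : Type u} [CommRing A] (L M : DRing.Cx A)

theorem kun_surjective_of_torSum (hf : DRing.TermwiseFlat L)
    (bL : ∃ b : ℤ, DRing.VanishesAbove L b) (bM : ∃ b : ℤ, DRing.VanishesAbove M b) (n : ℤ)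
    (h : ∀ (p : ℕ) (i j : ℤ), i + j - ((p + 1 : ℕ) : ℤ) = n →
      Subsingleton (DRing.Tor A (p + 1) (L.homology i) (M.homology j))) :
    Function.Surjective (kun L M n) := by
  obtain ⟨N, F, h0, hm, hN, hgr⟩ := exists_kunneth_filtration L M hf bL bM n
  have hle : ∀ p, F p ≤ F 0 := by
    intro p
    induction p with
    | zero => exact le_rfl
    | succ p ih =>
      refine le_trans (fun x hx => ?_) ih
      have : Subsingleton (HTor.TorSum L M n (p + 1)) :=
        ⟨fun x y => DFinsupp.ext fun k =>
          (h p k.1.1 k.1.2 k.2).elim (x k) (y k)⟩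
      have := subsingleton_of_subq (hgr p)
      exact (Submodule.Quotient.mk_eq_zero ((F p).comap (F (p + 1)).subtype)).mp
        (Subsingleton.elim (Submodule.Quotient.mk (⟨x, hx⟩ : F (p + 1))) 0)
  rw [← LinearMap.range_eq_top, ← h0]
  exact top_le_iff.mp (hN ▸ hle N)

lemma subsingleton_homology {K : DRing.Cx A} {a : ℤ} (hK : ∀ p, a < p → IsZero (K.X p)) {p : ℤ}
    (hp : a < p) : Subsingleton (K.homology p) := by
  refine ⟨fun x y => ?_⟩
  have : Subsingleton (K.X p) := ModuleCat.isZero_iff_subsingleton.mp (hK p hp)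
  obtain ⟨x, rfl⟩ := cl_surjective K p x
  obtain ⟨y, rfl⟩ := cl_surjective K p y
  rw [show x = y from Subtype.ext (Subsingleton.elim _ _)]

theorem exists_cycle_kun {a b : ℤ} (hL : ∀ p, a < p → IsZero (L.X p))
    (hM : ∀ q, b < q → IsZero (M.X q)) {n : ℤ} (s : HTor.KunnethSum L M n)
    (w : ∀ i, Z L i ⊗[A] Z M (n - i))
    (hw : ∀ i, TensorProduct.map (cl L i) (cl M (n - i)) (w i) =
      DirectSum.component A _ _ (⟨(i, n - i), by omega⟩ : HTor.Antidiag n) s) :
    ∃ x : Z (HTor.tensorCx L M) n, cl _ n x = kun L M n s ∧ ∀ p,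
      pc L M p (n - p) n x.1 = TensorProduct.map (Z L p).subtype (Z M (n - p)).subtype (w p) := by
  classical
  let xi : ℤ → Z (HTor.tensorCx L M) n := fun i =>
    ⟨_, (chi_eq L M (show i + (n - i) = n by omega) (w i)).choose⟩
  refine ⟨∑ i ∈ Finset.Icc (n - b) a, xi i, ?_, fun p => ?_⟩
  · have hs : s = ∑ i ∈ Finset.Icc (n - b) a,
        DirectSum.lof A _ _ (⟨(i, n - i), by omega⟩ : HTor.Antidiag n)
          (TensorProduct.map (cl L i) (cl M (n - i)) (w i)) := by
      refine DirectSum.ext_component A fun k => ?_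
      obtain ⟨⟨p, q⟩, hpq⟩ := k
      obtain rfl : q = n - p := by simp only at hpq; omega
      rw [map_sum]
      by_cases hp : p ∈ Finset.Icc (n - b) a
      · rw [Finset.sum_eq_single p (fun i _ hi => by
          rw [DirectSum.component.of, dif_neg (fun h => hi (congrArg (fun k => k.1.1) h))])
          (fun h => absurd hp h), DirectSum.component.lof_self, hw]
      · rw [Finset.mem_Icc, not_and_or, not_le, not_le] at hp
        rcases hp with hp | hp
        · have := subsingleton_homology hM (p := n - p) (by omega)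
          exact Subsingleton.elim _ _
        · have := subsingleton_homology hL hp
          exact Subsingleton.elim _ _
    rw [hs, map_sum, map_sum]
    refine Finset.sum_congr rfl fun i _ => ?_
    rw [kun_lof, kun₁_map]
    exact (chi_eq L M (show i + (n - i) = n by omega) (w i)).choose_spec.symm
  · rw [Submodule.coe_sum, map_sum]
    by_cases hp : p ∈ Finset.Icc (n - b) a
    · rw [Finset.sum_eq_single p (fun i _ hi => proj_ins_ne L M _ (by omega) _)
        (fun h => absurd hp h), proj_ins_self]
    · rw [Finset.mem_Icc, not_and_or, not_le, not_le] at hp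
      rcases hp with hp | hp
      · have : Subsingleton (M.X (n - p)) :=
          ModuleCat.isZero_iff_subsingleton.mp (hM _ (by omega))
        exact Subsingleton.elim _ _
      · have : Subsingleton (L.X p) := ModuleCat.isZero_iff_subsingleton.mp (hL p hp)
        exact Subsingleton.elim _ _

theorem kun_injective {a b : ℤ} (hL : ∀ p, a < p → IsZero (L.X p))
    (hM : ∀ q, b < q → IsZero (M.X q)) (n : ℤ)
    (hsurj : Function.Surjective (kun L (M1 M) (n - 1))) :
    Function.Injective (kun L M n) := by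
  classical
  rw [injective_iff_map_eq_zero]
  intro s hs
  have ht : ∀ i, ∃ t : Z L i ⊗[A] G M (n - i),
      TensorProduct.map (cl L i) (πG M (n - i)) t =
        DirectSum.component A _ _ (⟨(i, n - i), by omega⟩ : HTor.Antidiag n) s := fun i =>
    TensorProduct.map_surjective (cl_surjective L i) (πG_surjective M _) _
  choose t ht using ht
  obtain ⟨x, hx, hxc⟩ := exists_cycle_kun L M hL hM s
    (fun i => LinearMap.lTensor (Z L i) (φZ M (n - i)) (t i)) (fun i => by
      rw [← ht i, ← LinearMap.comp_apply, LinearMap.map_comp_lTensor]; rfl)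
  rw [hs, cl_eq_zero_iff _ (m := n - 1) (by omega)] at hx
  obtain ⟨y, hy⟩ := hx
  -- transport the lifts to the index `(i, q + 1)`
  have hT : ∀ i q, i + (q + 1) = n → ∃ T : Z L i ⊗[A] G M (q + 1),
      (∀ h : i + (q + 1) = n, LinearMap.lTensor _ (πG M (q + 1)) (LinearMap.rTensor _ (cl L i) T) =
        DirectSum.component A _ _ (⟨(i, q + 1), h⟩ : HTor.Antidiag n) s) ∧
      pc L M i (q + 1) n x.1 = LinearMap.lTensor (L.X i) (φ M (q + 1)) (ψ L M i q T) := by
    intro i q hiq
    obtain rfl : q = n - i - 1 := by omega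
    have key : ∀ j (hj : j = n - i), ∃ T : Z L i ⊗[A] G M j,
        (∀ h : i + j = n, LinearMap.lTensor _ (πG M j) (LinearMap.rTensor _ (cl L i) T) =
          DirectSum.component A _ _ (⟨(i, j), h⟩ : HTor.Antidiag n) s) ∧
        pc L M i j n x.1 =
          LinearMap.lTensor (L.X i) (φ M j) (LinearMap.rTensor (G M j) (Z L i).subtype T) := by
      rintro j rfl
      refine ⟨t i, fun h => ?_, ?_⟩
      · rw [← LinearMap.comp_apply, LinearMap.lTensor_comp_rTensor]
        exact ht i
      · rw [hxc i, ← LinearMap.comp_apply, LinearMap.map_comp_lTensor, ← LinearMap.comp_apply,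
          LinearMap.lTensor_comp_rTensor]
        rfl
    exact key _ (by omega)
  choose T hT1 hT2 using hT
  obtain ⟨u, hu⟩ := exists_pc L (M1 M) hL (isZero_M1 M hM) (n - 1) (fun p q =>
    LinearMap.lTensor (L.X p) (inM M q) (pc L M p q (n - 1) y) -
      if h : p + (q + 1) = n then ((p.negOnePow : ℤˣ) : ℤ) •
        LinearMap.lTensor (L.X p) (inG M q) (ψ L M p q (T p q h)) else 0)
  have huz : u ∈ Z (HTor.tensorCx L (M1 M)) (n - 1) := by
    refine pc_ext L (M1 M) hL (isZero_M1 M hM) fun p q hpq => ?_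
    obtain ⟨q, rfl⟩ : ∃ q', q = q' + 1 := ⟨q - 1, by omega⟩
    rw [map_zero, pc_d L (M1 M) (p - 1) p q (q + 1) (n - 1) (n - 1 + 1) (by omega) rfl rfl hpq,
      hu _ _ (by omega), hu _ _ (by omega), dif_pos (show p - 1 + (q + 1 + 1) = n by omega),
      dif_pos (show p + (q + 1) = n by omega), map_sub, map_sub, map_zsmul, map_zsmul]
    have c1 : LinearMap.rTensor ((M1 M).X (q + 1)) (L.d (p - 1) p).hom
        (LinearMap.lTensor (L.X (p - 1)) (inG M (q + 1))
          (ψ L M (p - 1) (q + 1) (T (p - 1) (q + 1) (by omega)))) = 0 := by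
      rw [← LinearMap.comp_apply, LinearMap.rTensor_comp_lTensor,
        ← LinearMap.lTensor_comp_rTensor, LinearMap.comp_apply, ψ,
        ← LinearMap.rTensor_comp_apply]
      rw [show (L.d (p - 1) p).hom.comp (Z L (p - 1)).subtype = 0 from LinearMap.ext fun z => by
        obtain ⟨r, rfl⟩ : ∃ r, p = r + 1 := ⟨p - 1, by omega⟩
        have : ∀ r' (hr : r' = r) (z : Z L r'), L.d r' (r + 1) z.1 = 0 := by
          rintro r' rfl z; exact z.2
        exact this _ (by omega) z]
      rw [LinearMap.rTensor_zero, LinearMap.zero_apply, map_zero]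
    have c2 : ((M1 M).d q (q + 1)).hom.comp (inM M q) =
        (inM M (q + 1)).comp (M.d q (q + 1)).hom :=
      LinearMap.ext fun m => (congr($((ι M).comm q (q + 1)) m))
    have c3 : ((M1 M).d q (q + 1)).hom.comp (inG M q) = (inM M (q + 1)).comp (φ M (q + 1)) := by
      rw [M1_d]
      refine LinearMap.ext fun g => Prod.ext ?_ rfl
      show (M.d q (q + 1)).hom 0 + φ M (q + 1) g = _
      rw [map_zero, zero_add]
      rfl
    rw [c1, smul_zero, sub_zero, ← LinearMap.lTensor_comp_apply, c2,
      ← LinearMap.lTensor_comp_apply, c3, LinearMap.lTensor_comp_apply,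
      LinearMap.lTensor_comp_apply, ← hT2 p q (by omega), ← LinearMap.comp_apply,
      LinearMap.rTensor_comp_lTensor, ← LinearMap.lTensor_comp_rTensor, LinearMap.comp_apply,
      smul_sub, smul_smul, ← Units.val_mul, Int.units_mul_self, Units.val_one, one_smul,
      ← map_zsmul, ← add_sub_assoc, ← map_add, ← map_sub]
    rw [← pc_d L M (p - 1) p q (q + 1) (n - 1) n (by omega) rfl (by omega) (by omega), hy,
      sub_self, map_zero]
  refine DirectSum.ext_component A fun k => ?_
  obtain ⟨⟨i, j⟩, hk⟩ := k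
  obtain ⟨q, rfl⟩ : ∃ q, j = q + 1 := ⟨j - 1, by omega⟩
  rw [map_zero, ← hT1 i q hk hk]
  obtain ⟨s', hs'⟩ := hsurj (cl _ (n - 1) ⟨u, huz⟩)
  have hiq : i + q = n - 1 := by simp only at hk; omega
  have hδ := δ_kun L M (⟨(i, q), hiq⟩ : HTor.Antidiag (n - 1)) s'
  rw [hs', δ_cl, δZ_eq L M hiq _ (-(((i.negOnePow : ℤˣ) : ℤ) • T i q hk))] at hδ
  · have h1 := congrArg (LinearMap.lTensor (L.homology i) (πG M (q + 1))) hδ
    rw [← LinearMap.lTensor_comp_apply (M := L.homology i) (πG M (q + 1)) (e M q),
      show (πG M (q + 1)).comp (e M q) = 0 from (exact_e_πG M q).linearMap_comp_eq_zero,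
      LinearMap.lTensor_zero, LinearMap.zero_apply, map_neg, map_neg, map_zsmul, map_zsmul,
      neg_eq_zero] at h1
    have h2 := congrArg (fun t => ((i.negOnePow : ℤˣ) : ℤ) • t) h1
    simpa [smul_smul, ← Units.val_mul, Int.units_mul_self] using h2
  · show _ = LinearMap.lTensor (L.X i) (prG M q) (pc L (M1 M) i q (n - 1) u)
    rw [hu i q hiq, dif_pos hk, map_sub, map_zsmul, ← LinearMap.lTensor_comp_apply,
      show (prG M q).comp (inM M q) = 0 from rfl, LinearMap.lTensor_zero, LinearMap.zero_apply,
      ← LinearMap.lTensor_comp_apply, show (prG M q).comp (inG M q) = LinearMap.id from rfl,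
      LinearMap.lTensor_id, LinearMap.id_apply, zero_sub, map_neg, map_zsmul]

end Groth.L28.Kun
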