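import Groth.Prelude.Def_HTor

/-!
Subquotients of modules.
-/

set_option autoImplicit false
universe u v

namespace Groth.L28.Kun

variable {R : Type v} [CommRing R] {N N' T T' : Type u} [AddCommGroup N] [Module R N]
  [AddCommGroup N'] [Module R N'] [AddCommGroup T] [Module R T] [AddCommGroup T'] [Module R T']

/-- A quotient of a submodule is a subquotient. -/
theorem subq_of_surj (U : Submodule R T) (f : U →ₗ[R] N) (hf : Function.Surjective f) :
    HTor.IsSubquotient R N T := by
  refine ⟨(LinearMap.ker f).map U.subtype, U, ?_, ?_⟩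
  · rintro _ ⟨x, -, rfl⟩
    exact x.2
  · rw [Submodule.comap_map_eq_of_injective U.subtype_injective]
    exact ⟨(f.quotKerEquivOfSurjective hf).symm⟩

theorem exists_surj_of_subq (h : HTor.IsSubquotient R N T) :
    ∃ (U : Submodule R T) (f : U →ₗ[R] N), Function.Surjective f := by
  obtain ⟨S, S', -, ⟨e⟩⟩ := h
  exact ⟨S', e.symm.toLinearMap.comp (Submodule.mkQ _),
    e.symm.surjective.comp (Submodule.mkQ_surjective _)⟩

theorem subq_of_injective (g : N →ₗ[R] N') (hg : Function.Injective g)
    (h : HTor.IsSubquotient R N' T) : HTor.IsSubquotient R N T := by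
  obtain ⟨U, f, hf⟩ := exists_surj_of_subq h
  let W : Submodule R U := (LinearMap.range g).comap f
  let f' : W →ₗ[R] LinearMap.range g := f.restrict fun _ hx => hx
  have hf' : Function.Surjective f' := fun y => by
    obtain ⟨x, hx⟩ := hf y.1
    exact ⟨⟨x, show f x ∈ LinearMap.range g by rw [hx]; exact y.2⟩, Subtype.ext hx⟩
  let i : W ≃ₗ[R] W.map U.subtype := Submodule.equivMapOfInjective _ U.subtype_injective W
  exact subq_of_surj _
    ((LinearEquiv.ofInjective g hg).symm.toLinearMap.comp (f'.comp i.symm.toLinearMap))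
    ((LinearEquiv.ofInjective g hg).symm.surjective.comp (hf'.comp i.symm.surjective))

theorem subq_congr_right (e : T ≃ₗ[R] T') (h : HTor.IsSubquotient R N T) :
    HTor.IsSubquotient R N T' := by
  obtain ⟨U, f, hf⟩ := exists_surj_of_subq h
  let i : U ≃ₗ[R] U.map e.toLinearMap := Submodule.equivMapOfInjective _ e.injective U
  exact subq_of_surj _ (f.comp i.symm.toLinearMap) (hf.comp i.symm.surjective)

theorem subq_of_le_range (f : T →ₗ[R] N') (V : Submodule R N') (hV : V ≤ LinearMap.range f) :
    HTor.IsSubquotient R V T :=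
  subq_of_surj (V.comap f) (f.restrict fun _ hx => hx) fun y => by
    obtain ⟨x, hx⟩ := hV y.2
    exact ⟨⟨x, show f x ∈ V by rw [hx]; exact y.2⟩, Subtype.ext hx⟩

theorem subq_of_subsingleton [Subsingleton N] : HTor.IsSubquotient R N T :=
  subq_of_surj ⊥ 0 fun _ => ⟨0, Subsingleton.elim _ _⟩

theorem subsingleton_of_subq [Subsingleton T] (h : HTor.IsSubquotient R N T) : Subsingleton N := by
  obtain ⟨U, f, hf⟩ := exists_surj_of_subq h
  exact hf.subsingleton

end Groth.L28.Kun
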