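import Groth.Agent.L28.Kun.Cone
import Groth.Agent.L28.Kun.Subq
import Groth.Agent.L28.Kun.Shift

/-!
The Künneth filtration.
-/

set_option autoImplicit false
universe u

open CategoryTheory CategoryTheory.Limits MonoidalCategory HomologicalComplex
open scoped TensorProduct
open Groth.L28.TensorCx

namespace Groth.L28.Kun

variable {A : Type u} [CommRing A] (L M : DRing.Cx A)

lemma cl_ι {j : ℤ} (x : Z M j) :
    cl (M1 M) j ⟨(ι M).f j x.1, map_mem_Z (ι M) x⟩ = 0 := by
  obtain ⟨r, rfl⟩ : ∃ r, j = r + 1 := ⟨j - 1, by omega⟩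
  obtain ⟨g, hg⟩ := πG_surjective M (r + 1) (cl M (r + 1) x)
  obtain ⟨y, hy⟩ := (cl_eq_zero_iff M (m := r) rfl (x - φZ M (r + 1) g)).mp
    (by rw [map_sub, ← LinearMap.comp_apply, ← πG, hg, sub_self])
  rw [cl_eq_zero_iff _ (m := r) rfl]
  refine ⟨inM M r y + inG M r g, ?_⟩
  rw [M1_d]
  show d1 M r ((y, 0) + (0, g)) = inM M (r + 1) x.1
  refine Prod.ext ?_ rfl
  show (M.d r (r + 1)).hom (y + 0) + φ M (r + 1) (0 + g) = x.1
  rw [add_zero, zero_add, show (M.d r (r + 1)).hom y = x.1 - φ M (r + 1) g from hy, sub_add_cancel]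

lemma jH_kun (n : ℤ) (s : HTor.KunnethSum L M n) : jH L M n (kun L M n s) = 0 := by
  induction s using DirectSum.induction_on with
  | zero => simp
  | add a b ha hb => rw [map_add, map_add, ha, hb, add_zero]
  | of ij w =>
    rw [← DirectSum.lof_eq_of A, kun_lof]
    induction w using TensorProduct.induction_on with
    | zero => simp
    | add a b ha hb => rw [map_add, map_add, ha, hb, add_zero]
    | tmul h h' =>
      obtain ⟨z, rfl⟩ := cl_surjective L _ h
      obtain ⟨z', rfl⟩ := cl_surjective M _ h'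
      rw [← TensorProduct.map_tmul, kun₁_map, chi_tmul]
      show HomologicalComplex.homologyMap (HomologicalComplex.tensorHom (𝟙 L) (ι M)) n
        (cl _ n _) = 0
      rw [homologyMap_cl]
      have h0 : chi L (M1 M) ij.1.1 ij.1.2 n ij.2
          (z ⊗ₜ ⟨(ι M).f ij.1.2 z'.1, map_mem_Z (ι M) z'⟩) = 0 := by
        rw [← kun₁_map, TensorProduct.map_tmul, cl_ι, TensorProduct.tmul_zero, map_zero]
      rw [chi_tmul] at h0
      refine (congrArg (cl _ n) (Subtype.ext ?_)).trans h0
      show (HomologicalComplex.tensorHom (𝟙 L) (ι M)).f n _ = _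
      rw [map_ins, TensorProduct.map_tmul]
      rfl

lemma mem_range_kun {a b : ℤ} (hL : ∀ p, a < p → IsZero (L.X p))
    (hM : ∀ q, b < q → IsZero (M.X q)) {n : ℤ} (x : Z (HTor.tensorCx L M) n)
    (hx : ∀ p q, p + q = n → ∃ w : Z L p ⊗[A] Z M q,
      pc L M p q n x.1 = TensorProduct.map (Z L p).subtype (Z M q).subtype w) :
    cl _ n x ∈ LinearMap.range (kun L M n) := by
  choose w hw using hx
  let xi : ℤ → Z (HTor.tensorCx L M) n := fun i =>
    ⟨_, (chi_eq L M (show i + (n - i) = n by omega) (w i (n - i) (by omega))).choose⟩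
  have hsum : x = ∑ i ∈ Finset.Icc (n - b) a, xi i := by
    refine Subtype.ext (pc_ext L M hL hM fun p q hpq => ?_)
    obtain rfl : q = n - p := by omega
    rw [Submodule.coe_sum, map_sum]
    by_cases hp : p ∈ Finset.Icc (n - b) a
    · rw [Finset.sum_eq_single p (fun i _ hi => proj_ins_ne L M _ (by omega) _)
        (fun h => absurd hp h), proj_ins_self]
      exact hw p (n - p) hpq
    · rw [Finset.mem_Icc, not_and_or, not_le, not_le] at hp
      rcases hp with hp | hp
      · have : Subsingleton (M.X (n - p)) :=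
          ModuleCat.isZero_iff_subsingleton.mp (hM _ (by omega))
        exact Subsingleton.elim _ _
      · have : Subsingleton (L.X p) := ModuleCat.isZero_iff_subsingleton.mp (hL p hp)
        exact Subsingleton.elim _ _
  rw [hsum, map_sum]
  refine Submodule.sum_mem _ fun i _ => ?_
  refine ⟨DirectSum.lof A _ _ (⟨(i, n - i), by omega⟩ : HTor.Antidiag n)
    (TensorProduct.map (cl L i) (cl M (n - i)) (w i (n - i) (by omega))), ?_⟩
  rw [kun_lof, kun₁_map]
  exact (chi_eq L M (show i + (n - i) = n by omega) (w i (n - i) (by omega))).choose_spec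

theorem ker_jH {a b : ℤ} (hL : ∀ p, a < p → IsZero (L.X p))
    (hM : ∀ q, b < q → IsZero (M.X q)) (n : ℤ) :
    LinearMap.ker (jH L M n) = LinearMap.range (kun L M n) := by
  refine le_antisymm (fun v hv => ?_) ?_
  swap
  · rintro _ ⟨s, rfl⟩
    exact jH_kun L M n s
  obtain ⟨x, rfl⟩ := cl_surjective _ n v
  have h0 : HomologicalComplex.homologyMap (HomologicalComplex.tensorHom (𝟙 L) (ι M)) n
      (cl _ n x) = 0 := hv
  rw [homologyMap_cl, cl_eq_zero_iff _ (m := n - 1) (by omega)] at h0
  obtain ⟨u, hu⟩ := h0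
  obtain ⟨y, hy⟩ := exists_pc L M hL hM (n - 1)
    (fun p q => LinearMap.lTensor (L.X p) (prM M q) (pc L (M1 M) p q (n - 1) u))
  let x' : Z (HTor.tensorCx L M) n :=
    x - ⟨(HTor.tensorCx L M).d (n - 1) n y, d_mem_Z _ _ _ y⟩
  have hcl : cl _ n x' = cl _ n x := by
    rw [map_sub, sub_eq_self, cl_eq_zero_iff _ (m := n - 1) (by omega)]
    exact ⟨y, rfl⟩
  rw [← hcl]
  refine mem_range_kun L M hL hM x' fun p q hpq => ?_
  obtain ⟨q, rfl⟩ : ∃ q', q = q' + 1 := ⟨q - 1, by omega⟩
  obtain ⟨t, ht⟩ : ∃ t, ψ L M p q t = cG L M p q (n - 1) u := by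
    refine exists_ψ L M ?_
    rw [← cG_d L M rfl (show n - 1 + 1 = n by omega) (by omega), hu]
    show LinearMap.lTensor _ (prG M q) (pc L (M1 M) (p + 1) q n _) = 0
    rw [pc_ι, ← LinearMap.lTensor_comp_apply, show (prG M q).comp (inM M q) = 0 from rfl,
      LinearMap.lTensor_zero, LinearMap.zero_apply]
  refine ⟨((p.negOnePow : ℤˣ) : ℤ) • LinearMap.lTensor (Z L p) (φZ M (q + 1)) t, ?_⟩
  have e1 := congrArg (LinearMap.lTensor (L.X p) (prM M (q + 1)))
    (congrArg (pc L (M1 M) p (q + 1) n) hu)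
  rw [pc_ι, ← LinearMap.lTensor_comp_apply,
    show (prM M (q + 1)).comp (inM M (q + 1)) = LinearMap.id from rfl, LinearMap.lTensor_id,
    LinearMap.id_apply, pc_d L (M1 M) (p - 1) p q (q + 1) (n - 1) n (by omega) rfl (by omega) hpq,
    map_add, map_zsmul, ← LinearMap.lTensor_comp_apply, prM_d, LinearMap.lTensor_add,
    LinearMap.add_apply, LinearMap.lTensor_comp_apply, LinearMap.lTensor_comp_apply,
    ← LinearMap.comp_apply (LinearMap.lTensor _ (prM M (q + 1))),
    LinearMap.lTensor_comp_rTensor, ← LinearMap.rTensor_comp_lTensor, LinearMap.comp_apply] at e1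
  show pc L M p (q + 1) n (x.1 - (HTor.tensorCx L M).d (n - 1) n y) = _
  rw [map_sub, ← e1, pc_d L M (p - 1) p q (q + 1) (n - 1) n (by omega) rfl (by omega) hpq,
    hy _ _ (by omega), hy _ _ (by omega), smul_add, map_zsmul]
  have : TensorProduct.map (Z L p).subtype (Z M (q + 1)).subtype
      (LinearMap.lTensor (Z L p) (φZ M (q + 1)) t) =
      LinearMap.lTensor (L.X p) (φ M (q + 1)) (cG L M p q (n - 1) u) := by
    rw [← ht, ψ, ← LinearMap.comp_apply, LinearMap.map_comp_lTensor, ← LinearMap.comp_apply,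
      LinearMap.lTensor_comp_rTensor]
    rfl
  rw [this]
  show _ = ((p.negOnePow : ℤˣ) : ℤ) • LinearMap.lTensor (L.X p) (φ M (q + 1))
    (LinearMap.lTensor (L.X p) (prG M q) (pc L (M1 M) p q (n - 1) u))
  abel

theorem lTensor_e_eq_zero {n : ℤ} {s : HTor.KunnethSum L (M1 M) n}
    (hs : kun L (M1 M) n s ∈ LinearMap.range (jH L M n)) (ij : HTor.Antidiag n) :
    LinearMap.lTensor _ (e M ij.1.2) (DirectSum.component A _ _ ij s) = 0 := by
  obtain ⟨v, hv⟩ := hs
  rw [← δ_kun, ← hv, δ_jH]

theorem subsingleton_of_bound {a b : ℤ} (hL : ∀ p, a < p → IsZero (L.X p))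
    (hM : ∀ q, b < q → IsZero (M.X q)) (hf : DRing.TermwiseFlat L) (n : ℤ)
    (h : ∀ j, n - a ≤ j → Subsingleton (M.homology j)) :
    Subsingleton ((HTor.tensorCx L M).homology n) := by
  suffices ∀ v : (HTor.tensorCx L M).homology n, v = 0 from ⟨fun x y => by rw [this x, this y]⟩
  intro v
  obtain ⟨x, rfl⟩ := cl_surjective _ n v
  have key : ∀ k : ℕ, ∃ y, ∀ p q, p + q = n → p < n - b + k →
      pc L M p q n (x.1 - (HTor.tensorCx L M).d (n - 1) n y) = 0 := by
    intro k
    induction k with
    | zero =>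
      refine ⟨0, fun p q hpq hp => ?_⟩
      have : Subsingleton (M.X q) := ModuleCat.isZero_iff_subsingleton.mp (hM _ (by omega))
      exact Subsingleton.elim _ _
    | succ k ih =>
      obtain ⟨y, hy⟩ := ih
      set r := n - b + (k : ℤ) with hr
      by_cases hra : a < r
      · refine ⟨y, fun p q hpq hp => ?_⟩
        by_cases hp' : p < r
        · exact hy p q hpq hp'
        · have : Subsingleton (L.X p) := ModuleCat.isZero_iff_subsingleton.mp (hL _ (by omega))
          exact Subsingleton.elim _ _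
      set z := x.1 - (HTor.tensorCx L M).d (n - 1) n y with hz_def
      have hz : (HTor.tensorCx L M).d n (n + 1) z = 0 := by
        rw [map_sub, show (HTor.tensorCx L M).d n (n + 1) x.1 = 0 from x.2,
          show (HTor.tensorCx L M).d n (n + 1) ((HTor.tensorCx L M).d (n - 1) n y) = 0 from
            d_mem_Z _ _ _ y, sub_zero]
      have hd := congrArg (pc L M r (n - r + 1) (n + 1)) hz
      rw [pc_d L M (r - 1) r (n - r) (n - r + 1) n (n + 1) (by omega) rfl rfl (by omega),
        hy (r - 1) (n - r + 1) (by omega) (by omega), map_zero, map_zero, zero_add] at hd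
      have hd' : LinearMap.lTensor (L.X r) (M.d (n - r) (n - r + 1)).hom
          (pc L M r (n - r) n z) = 0 := by
        have := congrArg (fun t => ((r.negOnePow : ℤˣ) : ℤ) • t) hd
        simpa [smul_smul, ← Units.val_mul, Int.units_mul_self] using this
      have hex : Function.Exact (M.d (n - r - 1) (n - r)).hom (M.d (n - r) (n - r + 1)).hom := by
        intro m
        constructor
        · intro hm
          have : Subsingleton (M.homology (n - r)) := h _ (by omega)
          exact (cl_eq_zero_iff M (m := n - r - 1) (by omega) ⟨m, hm⟩).mp (Subsingleton.elim _ _)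
        · rintro ⟨m', rfl⟩
          exact d_mem_Z M _ _ m'
      have : Module.Flat A (L.X r) := hf r
      obtain ⟨y0, hy0⟩ := (Module.Flat.lTensor_exact (L.X r) hex _).mp hd'
      refine ⟨y + ((r.negOnePow : ℤˣ) : ℤ) • ins L M r (n - r - 1) (n - 1) (by omega) y0,
        fun p q hpq hp => ?_⟩
      obtain rfl : q = n - p := by omega
      rw [map_add, ← sub_sub, map_sub, map_zsmul, map_zsmul,
        pc_d L M (p - 1) p (n - p - 1) (n - p) (n - 1) n (by omega) (by omega) (by omega) (by omega),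
        proj_ins_ne L M _ (show ¬(r = p - 1 ∧ n - r - 1 = n - p) by omega), map_zero, zero_add]
      by_cases hp' : p = r
      · subst hp'
        rw [proj_ins_self, hy0, smul_smul, ← Units.val_mul, Int.units_mul_self, Units.val_one,
          one_smul, sub_self]
      · rw [hy p (n - p) hpq (by omega),
          proj_ins_ne L M _ (show ¬(r = p ∧ n - r - 1 = n - p - 1) by omega), map_zero,
          smul_zero, smul_zero, sub_zero]
  obtain ⟨y, hy⟩ := key (a - (n - b) + 1).toNat
  rw [cl_eq_zero_iff _ (m := n - 1) (by omega)]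
  refine ⟨y, (sub_eq_zero.mp (pc_ext L M hL hM fun p q hpq => ?_)).symm⟩
  rw [map_zero]
  by_cases hp : p < n - b + ((a - (n - b) + 1).toNat : ℤ)
  · exact hy p q hpq hp
  · have : Subsingleton (L.X p) := ModuleCat.isZero_iff_subsingleton.mp (hL _ (by omega))
    exact Subsingleton.elim _ _

end Groth.L28.Kun
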